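import Cfsg.Agent.BlocksB.QuotientPCentral
import Cfsg.Agent.BlocksB.RegRank
import Cfsg.Agent.Char.PowPart
import Cfsg.Agent.Char.InflationInduction
import Cfsg.Agent.BlocksB.PrincipalRankQuotient

/-!
# Regular parts of a block and of the block of the quotient by a central `p`-subgroup
-/

set_option autoImplicit false
set_option linter.style.haveILetI false
set_option linter.unusedSectionVars false

namespace CfsgLib.RankBound

open Cfsg Finset CfsgLib.Block CfsgLib.Block.Chr CfsgLib.BlockB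
open CfsgLib.Block.Quot hiding inflIrr exists_regular_lift

local notation "inflIrr" => CfsgLib.Block.Quot.inflIrr
open scoped Classical ComplexConjugate

universe u

variable {G : Type u} [Group G] [Fintype G] {N : Subgroup G} [N.Normal] {p : ℕ} [Fact p.Prime]
  {M : Ideal AlgInt} [M.IsPrime]

theorem classInner_infl [Fintype (G ⧸ N)] (φ ψ : G ⧸ N → ℂ) :
    classInner (fun g : G => φ g) (fun g : G => ψ g) = classInner φ ψ := by
  rw [CfsgLib.Char.classInner_def, CfsgLib.Char.classInner_def]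
  rw [show ∑ g : G, φ g * conj (ψ g) = (Nat.card N : ℂ) * ∑ y : G ⧸ N, φ y * conj (ψ y) from
    CfsgLib.Char.sum_comp_mk' N fun y => φ y * conj (ψ y),
    Subgroup.card_eq_card_quotient_mul_card_subgroup N, Nat.cast_mul, mul_inv]
  have : (Nat.card N : ℂ) ≠ 0 := Nat.cast_ne_zero.2 Nat.card_pos.ne'
  field_simp

/-- The values at the regular parts, as a function on the quotient. -/
theorem exists_regular_fun [Fintype (G ⧸ N)] (hN : IsPGroup p N)
    (hZ : N ≤ Subgroup.center G) (ξ : IrrCharacter G) :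
    ∃ f : G ⧸ N → ℂ, IsGeneralizedCharacter (G ⧸ N) f ∧
      ∀ g : G, ¬ p ∣ orderOf g → f g = (ξ : G → ℂ) g := by
  have hp : p.Prime := Fact.out
  set a := (Nat.card G).factorization p with ha
  set n := p ^ a
  set m := Nat.card G / p ^ a
  have hG : Nat.card G = m * n := by
    rw [mul_comm]; exact (Nat.ordProj_mul_ordCompl_eq_self _ _).symm
  have hm : ¬ p ∣ m := Nat.not_dvd_ordCompl hp Nat.card_pos.ne'
  have hcop : Nat.Coprime m n := ((hp.coprime_iff_not_dvd.2 hm).pow_left a).symm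
  obtain ⟨j, hj, hj1, hj0⟩ := CfsgLib.Char.exists_exp hcop
    (fun h => hm (h ▸ dvd_zero p)) (pow_ne_zero _ hp.ne_zero)
  set θ : G → ℂ := fun g => (ξ : G → ℂ) (g ^ j)
  have hcl : IsClassFunction G θ := fun g x => by
    show (ξ : G → ℂ) ((x * g * x⁻¹) ^ j) = (ξ : G → ℂ) (g ^ j)
    rw [conj_pow]
    exact isClassFunction_irr ξ _ x
  have hgen : IsGeneralizedCharacter G θ := by
    refine CfsgLib.Char.isGeneralized_of_restrict_elementary hcl fun E q hq hE => ?_
    have hEd : Nat.card E ∣ m * n := hG ▸ Subgroup.card_subgroup_dvd_card E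
    exact CfsgLib.Char.IsGeneralized.comp
      (CfsgLib.Char.IsGeneralized.restrict
        (CfsgLib.Char.IsCharacter.isGeneralized (isCharacter_irr ξ)) E)
      (MonoidHom.mk' (fun e : E => e ^ j) fun x y =>
        CfsgLib.Char.pow_part_mul hj1 hj0 hq hE hEd hcop hj x y)
  have hconst : ∀ g z : G, z ∈ N → θ (g * z) = θ g := by
    intro g z hz
    have hc : Commute g z := Subgroup.mem_center_iff.1 (hZ hz) g
    obtain ⟨i, hi⟩ := IsPGroup.iff_orderOf.1 hN ⟨z, hz⟩
    rw [Subgroup.orderOf_mk] at hi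
    have hz1 : z ^ n = 1 := by
      refine orderOf_dvd_iff_pow_eq_one.1 ?_
      rw [hi]
      refine pow_dvd_pow p ?_
      refine (hp.pow_dvd_iff_le_factorization Nat.card_pos.ne').1 ?_
      rw [← hi]
      exact _root_.orderOf_dvd_natCard z
    show (ξ : G → ℂ) ((g * z) ^ j) = (ξ : G → ℂ) (g ^ j)
    rw [hc.mul_pow, CfsgLib.Char.pow_part_eq_one hj1 hj0 hz1, mul_one]
  set f : G ⧸ N → ℂ := fun q => θ q.out
  have hf : ∀ g : G, f g = θ g := fun g => by
    obtain ⟨z, hz⟩ := QuotientGroup.mk_out_eq_mul N g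
    show θ (g : G ⧸ N).out = θ g
    rw [hz, hconst g z z.2]
  refine ⟨f, ?_, fun g hg => ?_⟩
  · refine CfsgLib.Char.isGeneralized_of_classInner_int ?_ fun ψ hψ => ?_
    · intro q r
      obtain ⟨g, rfl⟩ := QuotientGroup.mk_surjective q
      obtain ⟨x, rfl⟩ := QuotientGroup.mk_surjective r
      rw [← QuotientGroup.mk_inv, ← QuotientGroup.mk_mul, ← QuotientGroup.mk_mul, hf, hf]
      exact hcl g x
    · obtain ⟨z, hz⟩ := CfsgLib.Char.IsGeneralized.exists_classInner_eq_int hgen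
        (CfsgLib.Char.IsCharacter.isGeneralized (isCharacter_irr (inflIrr (⟨ψ, hψ⟩ : IrrCharacter (G ⧸ N)))))
      refine ⟨z, ?_⟩
      rw [← classInner_infl, show (fun g : G => f g) = θ from funext hf]
      exact hz
  · rw [hf]
    show (ξ : G → ℂ) (g ^ j) = (ξ : G → ℂ) g
    rw [CfsgLib.Char.pow_part_eq_self hj1 hj0]
    refine orderOf_dvd_iff_pow_eq_one.1 ?_
    have := hG ▸ _root_.orderOf_dvd_natCard g
    exact ((hp.coprime_iff_not_dvd.2 hg).symm.pow_right a).dvd_mul_right.1 this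

theorem centralizer_index (hZ : N ≤ Subgroup.center G) (p : ℕ) :
    ∃ k : ℕ, (Subgroup.centralizer (N : Set G)).index = p ^ k := by
  refine ⟨0, ?_⟩
  rw [pow_zero, Subgroup.index_eq_one, Subgroup.centralizer_eq_top_iff_subset]
  exact hZ

/-- The inflations of a block lie in a block, and no others do. -/
theorem infl_mem_iff (hM : IsPModular p M) (hN : IsPGroup p N) (hZ : N ≤ Subgroup.center G)
    {b : Set (IrrCharacter G)} (hb : IsPBlock M b) {bb : Set (IrrCharacter (G ⧸ N))}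
    (hbb : IsPBlock M bb) (hsub : ∀ χ ∈ bb, inflIrr χ ∈ b) (φ : IrrCharacter (G ⧸ N)) :
    inflIrr φ ∈ b ↔ φ ∈ bb := by
  refine ⟨fun h => ?_, hsub φ⟩
  obtain ⟨χ, hχ⟩ := exists_mem_block hbb
  refine (sameBlock_iff_mem hbb hχ).2 ?_
  exact (sameBlock_inflIrr_iff hM hN (centralizer_index hZ p) χ φ).2
    (sameBlock_of_mem hb (hsub χ hχ) h)

theorem eq_of_regular' (hN : IsPGroup p N) (hZ : N ≤ Subgroup.center G) {g h : G}
    (hg : ¬ p ∣ orderOf g) (hh : ¬ p ∣ orderOf h) (he : (g : G ⧸ N) = h) : g = h := by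
  refine CfsgLib.BlockB.eq_of_regular hN ?_ hg hh he
  rw [Subgroup.centralizer_eq_top_iff_subset.2 hZ, sup_top_eq]

/-- **Regular parts are integral combinations of the inflated ones.** -/
theorem exists_reg_comb [Fintype (G ⧸ N)] [Fintype (IrrCharacter (G ⧸ N))] (hM : IsPModular p M)
    (hN : IsPGroup p N) (hZ : N ≤ Subgroup.center G) {b : Set (IrrCharacter G)}
    (hb : IsPBlock M b) {bb : Set (IrrCharacter (G ⧸ N))} (hbb : IsPBlock M bb)
    (hsub : ∀ χ ∈ bb, inflIrr χ ∈ b) [Fintype bb] {ξ : IrrCharacter G} (hξ : ξ ∈ b) :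
    ∃ a : bb → ℤ, regPart p (ξ : G → ℂ) = ∑ φ : bb, (a φ : ℂ) •
      regPart p (inflIrr (φ : IrrCharacter (G ⧸ N)) : G → ℂ) := by
  letI := irrFintype (G := G)
  obtain ⟨f, hf, hfr⟩ := exists_regular_fun (p := p) hN hZ ξ
  choose a ha using fun φ : IrrCharacter (G ⧸ N) =>
    CfsgLib.Char.IsGeneralized.exists_classInner_eq_int hf
      (CfsgLib.Char.IsCharacter.isGeneralized (isCharacter_irr φ))
  refine ⟨fun φ => a φ.1, ?_⟩
  have hexp : regPart p (ξ : G → ℂ) =
      ∑ φ : IrrCharacter (G ⧸ N), (a φ : ℂ) • regPart p (inflIrr φ : G → ℂ) := by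
    funext g
    rw [Finset.sum_apply]
    by_cases hg : p ∣ orderOf g
    · rw [regPart_of_dvd hg]
      exact (sum_eq_zero fun φ _ => by rw [Pi.smul_apply, regPart_of_dvd hg, smul_zero]).symm
    · rw [regPart_of_not_dvd hg, ← hfr g hg,
        classFun_expand (CfsgLib.Char.IsGeneralized.isClassFunction hf) (g : G ⧸ N)]
      exact sum_congr rfl fun φ _ => by
        rw [Pi.smul_apply, regPart_of_not_dvd hg, smul_eq_mul, ha]; rfl
  conv_lhs => rw [show regPart p (ξ : G → ℂ) = blockPart b (regPart p (ξ : G → ℂ)) by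
    rw [blockPart_regPart hM hb, blockPart_irr, if_pos hξ]]
  funext g
  rw [hexp, blockPart_sum_smul, Finset.sum_apply]
  rw [← sum_subtype (univ.filter (· ∈ bb)) (p := (· ∈ bb)) (by simp)
    (fun φ : IrrCharacter (G ⧸ N) => ((a φ : ℂ) • regPart p (inflIrr φ : G → ℂ)) g), sum_filter]
  refine sum_congr rfl fun φ _ => ?_
  rw [blockPart_regPart hM hb, blockPart_irr]
  by_cases hφ : φ ∈ bb
  · rw [if_pos hφ, if_pos (hsub φ hφ)]
    rfl
  · rw [if_neg hφ, if_neg fun h => hφ ((infl_mem_iff hM hN hZ hb hbb hsub φ).1 h)]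
    by_cases hg : p ∣ orderOf g
    · rw [regPart_of_dvd hg, mul_zero]
    · rw [regPart_of_not_dvd hg, Pi.zero_apply, mul_zero]

/-- Inner products of inflated regular parts. -/
theorem classInner_regPart_infl [Fintype (G ⧸ N)] (hN : IsPGroup p N)
    (hZ : N ≤ Subgroup.center G) (φ ψ : IrrCharacter (G ⧸ N)) :
    classInner (regPart p (inflIrr φ : G → ℂ)) (regPart p (inflIrr ψ : G → ℂ)) =
      (Nat.card N : ℂ)⁻¹ *
        classInner (regPart p (φ : G ⧸ N → ℂ)) (regPart p (ψ : G ⧸ N → ℂ)) := by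
  rw [CfsgLib.Char.classInner_def, CfsgLib.Char.classInner_def,
    Subgroup.card_eq_card_quotient_mul_card_subgroup N, Nat.cast_mul, mul_inv,
    mul_comm (Nat.card (G ⧸ N) : ℂ)⁻¹, mul_assoc]
  congr 2
  refine Eq.trans (sum_filter_of_ne (p := fun g : G => ¬ p ∣ orderOf g) fun g _ hne hd => hne (by
    rw [regPart_of_dvd hd, zero_mul])).symm (Eq.trans ?_ (sum_filter_of_ne
      (p := fun q : G ⧸ N => ¬ p ∣ orderOf q) fun q _ hne hd => hne (by
      rw [regPart_of_dvd hd, zero_mul])))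
  refine sum_bij (fun g _ => (g : G ⧸ N)) (fun g hg => ?_) (fun g hg g' hg' he => ?_)
    (fun q hq => ?_) fun g hg => ?_
  · exact mem_filter.2 ⟨mem_univ _, fun h => (mem_filter.1 hg).2
      (h.trans (orderOf_map_dvd (QuotientGroup.mk' N) g))⟩
  · exact eq_of_regular' hN hZ (mem_filter.1 hg).2 (mem_filter.1 hg').2 he
  · obtain ⟨g, hgq, hg⟩ := CfsgLib.Block.Quot.exists_regular_lift (mem_filter.1 hq).2
    exact ⟨g, mem_filter.2 ⟨mem_univ _, hg⟩, hgq⟩
  · have hg' := (mem_filter.1 hg).2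
    have hq : ¬ p ∣ orderOf (g : G ⧸ N) := fun h =>
      hg' (h.trans (orderOf_map_dvd (QuotientGroup.mk' N) g))
    rw [regPart_of_not_dvd hg', regPart_of_not_dvd hg', regPart_of_not_dvd hq,
      regPart_of_not_dvd hq]
    rfl

/-- **The rank does not exceed the rank of the block of the quotient.** -/
theorem blockRank_le [Fintype (G ⧸ N)] [Fintype (IrrCharacter (G ⧸ N))] (hM : IsPModular p M)
    (hN : IsPGroup p N) (hZ : N ≤ Subgroup.center G) {b : Set (IrrCharacter G)}
    (hb : IsPBlock M b) {bb : Set (IrrCharacter (G ⧸ N))} (hbb : IsPBlock M bb)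
    (hsub : ∀ χ ∈ bb, inflIrr χ ∈ b) : blockRank p b ≤ blockRank p bb := by
  haveI : Fintype bb := Fintype.ofFinite bb
  let L : (G ⧸ N → ℂ) →ₗ[ℂ] (G → ℂ) :=
    { toFun := fun f g => if p ∣ orderOf g then 0 else f (g : G ⧸ N)
      map_add' := fun f f' => funext fun g => by simp only [Pi.add_apply]; split_ifs <;> simp
      map_smul' := fun c f => funext fun g => by simp }
  have hL : ∀ φ : IrrCharacter (G ⧸ N),
      L (pRegularPart p (φ : G ⧸ N → ℂ)) = regPart p (inflIrr φ : G → ℂ) := by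
    intro φ
    funext g
    show (if p ∣ orderOf g then 0 else pRegularPart p (φ : G ⧸ N → ℂ) (g : G ⧸ N)) = _
    by_cases hg : p ∣ orderOf g
    · rw [if_pos hg, regPart_of_dvd hg]
    · rw [if_neg hg, regPart_of_not_dvd hg, pRegularPart_eq, regPart_of_not_dvd
        (fun h => hg (h.trans (orderOf_map_dvd (QuotientGroup.mk' N) g)) :
          ¬ p ∣ orderOf (g : G ⧸ N))]
      rfl
  refine (Submodule.finrank_mono (?_ : Submodule.span ℂ ((fun χ : IrrCharacter G =>
      pRegularPart p (χ : G → ℂ)) '' b) ≤ (Submodule.span ℂ ((fun χ : IrrCharacter (G ⧸ N) =>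
      pRegularPart p (χ : G ⧸ N → ℂ)) '' bb)).map L)).trans (Submodule.finrank_map_le _ _)
  rw [Submodule.span_le]
  rintro _ ⟨ξ, hξ, rfl⟩
  obtain ⟨a, ha⟩ := exists_reg_comb hM hN hZ hb hbb hsub hξ
  show pRegularPart p (ξ : G → ℂ) ∈ _
  rw [pRegularPart_eq, ha]
  refine Submodule.sum_mem _ fun φ _ => Submodule.smul_mem _ _ ?_
  rw [← hL]
  exact Submodule.mem_map_of_mem (Submodule.subset_span ⟨φ.1, φ.2, rfl⟩)

end CfsgLib.RankBound
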