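import Cfsg.Agent.BlocksB.RankBound.Quad
import Cfsg.Agent.BlocksB.InertialAbelian
import Cfsg.Agent.BlocksB.RankTwo
import Cfsg.Agent.BlocksB.Star.Focal

/-!
# Major subsections of a block with abelian defect group
-/

set_option autoImplicit false
set_option linter.style.haveILetI false
set_option linter.unusedSectionVars false

namespace CfsgLib.RankBound

open Cfsg Finset CfsgLib.Block CfsgLib.Block.Chr CfsgLib.BrauerPairs CfsgLib.BlockStar
  CfsgLib.BlockB CfsgLib.HeightBound
open scoped ComplexConjugate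
open scoped Classical

universe u

variable {M : Ideal AlgInt} [M.IsPrime] {p : ℕ} [Fact p.Prime] [CharP (Residue M) p]
  {G : Type u} [Group G] [Fintype G]

local notation "Z[" x "]" => Subgroup.zpowers x
local notation "C[" Q "]" => Subgroup.centralizer (SetLike.coe Q)

/-- The block of the centralizer of an element of an abelian defect group. -/
theorem exists_major (hM : IsPModular p M) {B : Set (IrrCharacter G)} (hB : IsPBlock M B)
    {D : Subgroup G} (hD : IsDefectGroup p M B D) (hab : ∀ x ∈ D, ∀ y ∈ D, x * y = y * x)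
    {u : G} (hu : u ∈ D) :
    ∃ b : Set (IrrCharacter C[Z[u]]), IsInducedBlock M C[Z[u]] b B ∧
      blockDefect p b = blockDefect p B ∧ IsDefectGroup p M b (D.subgroupOf C[Z[u]]) ∧
      (∃ k, orderOf u = p ^ k ∧ k ≤ (Nat.card G).factorization p) ∧
      ∀ χ ∈ B, contrib p b u χ χ ≠ 0 := by
  have hb := isBlk_idem hM hB
  obtain ⟨e₀, hmax₀⟩ := exists_isMaxPair hb (isDef_of_isDefectGroup hM hB hD)
  haveI := Fintype.ofFinite C[D]
  obtain ⟨c, hc, rfl⟩ := exists_idemIn_eq hM (show IsBlk (Residue M) C[D] e₀ from hmax₀.1.1.2)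
  have hP : IsPair p (D, idemIn M C[D] c) := hmax₀.1.1
  have hZD : Z[u] ≤ D := Subgroup.zpowers_le.2 hu
  obtain ⟨f, hf⟩ := Inertial.exists_inducedIn hM hP.1 hc hab hZD
  obtain ⟨e', -, -, hmax'⟩ := Inertial.local_maxPair hM hB hP hmax₀ hab hZD hf
  have hfB : IsPBlock M f := hf.2.1
  have hdg : IsDefectGroup p M f (D.subgroupOf C[Z[u]]) :=
    isDefectGroup_of_isDef hM hfB (hmax'.isDef (isBlk_idem hM hfB))
  have hDL : D ≤ C[Z[u]] := fun x hx => Subgroup.mem_centralizer_iff.2 fun y hy => hab y (hZD hy) x hx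
  have hle := Inertial.ple_of_inducedIn hM hP hab hZD hf
  have hpair : IsPairOf p (idem M B) (Z[u], idemIn M C[Z[u]] f) :=
    (isPairOf_iff_of_ple hb hle hP).2 hmax₀.1
  have hup : u ∈ pSet p G := mem_pSet_of_mem hP hu
  obtain ⟨j, hj⟩ := mem_pSet.1 hup
  obtain ⟨k, -, hk⟩ := (Nat.dvd_prime_pow hM.1).1 (orderOf_dvd_of_pow_eq_one hj)
  refine ⟨f, isInducedBlock_of_isBrauerPairOf hM (zpowers_le_centralizer_zpowers u)
    ((isBrauerPairOf_iff hM).2 ⟨⟨hpair.1.1, hfB⟩, hB, hpair⟩), ?_, hdg, ⟨k, hk, ?_⟩, fun χ hχ => ?_⟩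
  · have h1 := card_defectGroup hM hfB hdg
    have h2 := card_defectGroup hM hB hD
    rw [Nat.card_congr (Subgroup.subgroupOfEquivOfLe hDL).toEquiv] at h1
    exact Nat.pow_right_injective (Fact.out : p.Prime).two_le (h1.symm.trans h2)
  · refine (hM.1.pow_dvd_iff_le_factorization Nat.card_pos.ne').1 ?_
    rw [← hk]
    exact _root_.orderOf_dvd_natCard u
  · obtain ⟨ψ, hψ, h0⟩ := exists_height_zero hM hB
    have hne := contribR_center_ne_zero hM hB hmax₀ hχ hψ h0 hu
      (Subgroup.mem_centralizer_iff.2 fun v hv => hab v hv u hu)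
    rw [← ple_unique hP hle (subBlk_ple hP hu), contribR_idemIn hM χ ψ hup hfB] at hne
    intro hz
    apply hne
    rw [contrib, CfsgLib.Char.classInner_def, mul_eq_zero] at hz
    have hz' := hz.resolve_left (inv_ne_zero (Nat.cast_ne_zero.2 Nat.card_pos.ne'))
    simp only [Complex.mul_conj'] at hz'
    norm_cast at hz'
    rw [sum_eq_zero_iff_of_nonneg fun _ _ => sq_nonneg _] at hz'
    rw [contrib, CfsgLib.Char.classInner_def]
    refine mul_eq_zero_of_right _ (sum_eq_zero fun s hs => ?_)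
    exact mul_eq_zero_of_left (norm_eq_zero.1 ((pow_eq_zero_iff two_ne_zero).1 (hz' s (mem_univ _)))) _

/-- The members are at most the scaled sum of the contributions. -/
theorem card_le_mul_rank (hM : IsPModular p M) {B : Set (IrrCharacter G)} {u : G}
    {H : Subgroup G} [Fintype H] (hH : H = Subgroup.centralizer ({u} : Set G))
    {b : Set (IrrCharacter H)} (hind : IsInducedBlock M H b B)
    (hbd : blockDefect p b = blockDefect p B) {k : ℕ} (hk : orderOf u = p ^ k)
    (hne : ∀ χ ∈ B, contrib p b u χ χ ≠ 0) :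
    Nat.card B ≤ p ^ blockDefect p B * blockRank p b := by
  letI := irrFintype (G := G)
  haveI : Fintype B := Fintype.ofFinite B
  have h := TNN.le_of_rat (pow_pos hM.1.pos k) univ
    (fun χ : B => (p : ℂ) ^ blockDefect p B * contrib p b u χ.1 χ.1)
    ((p : ℚ) ^ blockDefect p B * blockRank p b)
    (fun χ _ => hbd ▸ (scaled_contrib_mem hM hH hk hind.1 le_rfl χ.1 χ.1).2)
    (fun χ _ => by simpa using (tnn_contrib hM hH hk hind.1 le_rfl χ.1).natMul (p ^ blockDefect p B))
    (fun χ _ => mul_ne_zero (pow_ne_zero _ (Nat.cast_ne_zero.2 hM.1.ne_zero)) (hne _ χ.2))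
    (by
      have hs := sum_contrib_diag hM hH hk hind
      rw [sum_subtype (univ.filter (· ∈ B)) (p := (· ∈ B)) (by simp)
        (fun χ : IrrCharacter G => contrib p b u χ χ)] at hs
      rw [← mul_sum, hs]
      push_cast
      rw [sub_self]
      exact TNN.zero)
  rw [card_univ, ← Nat.card_eq_fintype_card] at h
  exact_mod_cast h

end CfsgLib.RankBound
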