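import Cfsg.Agent.BlocksB.RankBound.CentralQuotient
import Cfsg.Agent.BlocksB.RankBound.Major
import Cfsg.Agent.BlocksB.Cyclic.Main

/-!
# A major subsection whose quotient block has cyclic defect groups
-/

set_option autoImplicit false
set_option linter.style.haveILetI false
set_option linter.unusedSectionVars false

namespace CfsgLib.RankBound

open Cfsg Finset CfsgLib.Block CfsgLib.Block.Chr CfsgLib.BrauerPairs CfsgLib.BlockStar
  CfsgLib.BlockB CfsgLib.HeightBound CfsgLib.Cyclic
open scoped ComplexConjugate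
open scoped Classical

local notation "inflIrr" => CfsgLib.Block.Quot.inflIrr

universe u

variable {M : Ideal AlgInt} [M.IsPrime] {p : ℕ} [Fact p.Prime] [CharP (Residue M) p]
  {G : Type u} [Group G] [Fintype G]

local notation "C[" Q "]" => Subgroup.centralizer (SetLike.coe Q)

/-- The data of a block with nontrivial cyclic defect group. -/
theorem exists_cycData' (hM : IsPModular p M) {B : Set (IrrCharacter G)} (hB : IsPBlock M B)
    {P : Subgroup G} (hPD : IsDefectGroup p M B P) (hcyc : IsCyclic P) (hP1 : P ≠ ⊥) :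
    ∃ (c : Set (IrrCharacter C[P])) (t : G) (n : ℕ), CycData (M := M) p B P c t n := by
  obtain ⟨e₀, hmax⟩ := exists_isMaxPair (isBlk_idem hM hB) (isDef_of_isDefectGroup hM hB hPD)
  haveI := Fintype.ofFinite C[P]
  obtain ⟨c, hc, rfl⟩ := exists_idemIn_eq hM (show IsBlk (Residue M) C[P] e₀ from hmax.1.1.2)
  have hind : IsInducedBlock M C[P] c B := isInducedBlock_of_isBrauerPairOf hM
    (fun x hx => Subgroup.mem_centralizer_iff.2 fun y hy => commute_of_cyclic hcyc y hy x hx)
    ((isBrauerPairOf_iff hM).2 ⟨⟨hmax.1.1.1, hc⟩, hB, hmax.1⟩)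
  obtain ⟨t, n, S⟩ := exists_cycData hM hB hPD hcyc hP1 hind
  exact ⟨c, t, n, S⟩

/-- **A signed basis of the regular parts of a block with cyclic defect group.** -/
theorem exists_reg_basis {B : Set (IrrCharacter G)} [Fintype B] {P : Subgroup G}
    {c : Set (IrrCharacter C[P])} {t : G} {n : ℕ} (S : CycData (M := M) p B P c t n) :
    ∃ (m : ℕ) (x : Fin n → B) (δ : Fin n → ℤ) (w : B → Fin n → ℤ),
      blockRank p B = n ∧ 1 + n * m = Nat.card P ∧ 0 < m ∧
      (∀ (φ : B) (g : G), ¬ p ∣ orderOf g → ((φ : IrrCharacter G) : G → ℂ) g =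
        ∑ i, (w φ i : ℂ) * ((δ i : ℂ) * ((x i : IrrCharacter G) : G → ℂ) g)) ∧
      ∀ i j, (δ i : ℂ) * (δ j : ℂ) * classInner (regPart p ((x i : IrrCharacter G) : G → ℂ))
          (regPart p ((x j : IrrCharacter G) : G → ℂ)) =
        (if i = j then 1 else 0) - (m : ℂ) * (Nat.card P : ℂ)⁻¹ := by
  haveI := Fintype.ofFinite P
  obtain ⟨mu, V⟩ := S.exists_cycVals
  obtain ⟨χ₀, hχ₀, -⟩ := exists_height_zero S.hM S.hB
  obtain ⟨hrank, X, δ, δ₀, rep, T, -⟩ := exists_tree S V ⟨χ₀, hχ₀⟩
  let e : X ≃ Fin n := X.equivFinOfCardEq T.card_X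
  have hm : 0 < (Xᶜ).card := by
    have h1 := T.card_Y
    have h2 : 1 < Nat.card P := by
      rw [Finite.one_lt_card_iff_nontrivial, Subgroup.nontrivial_iff_ne_bot]
      exact S.hP1
    rcases Nat.eq_zero_or_pos (Xᶜ).card with h | h
    · rw [h, mul_zero, zero_add] at h1
      omega
    · exact h
  refine ⟨(Xᶜ).card, fun i => (e.symm i).1, fun i => δ (e.symm i).1,
    fun φ i => if φ ∈ X then (if φ = (e.symm i).1 then δ φ else 0) else -δ₀, hrank,
    by rw [add_comm]; exact T.card_Y, hm, fun φ g hg => ?_, fun i j => ?_⟩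
  · by_cases hφ : φ ∈ X
    · rw [sum_eq_single (e ⟨φ, hφ⟩)]
      · simp only [if_pos hφ, Equiv.symm_apply_apply, if_true]
        rcases T.sign φ hφ with h | h <;> simp [h]
      · intro i _ hi
        simp only [if_pos hφ]
        rw [if_neg fun h => hi (e.symm.injective (by
          rw [Equiv.symm_apply_apply]; exact Subtype.ext h.symm))]
        simp
      · simp
    · simp only [if_neg hφ]
      have h := T.reg φ hφ g hg
      rw [← mul_sum, ← e.sum_comp (fun i => ((δ (e.symm i).1 : ℤ) : ℂ) *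
        (((e.symm i).1 : IrrCharacter G) : G → ℂ) g)]
      simp only [Equiv.symm_apply_apply]
      rw [← sum_coe_sort X fun x => (δ x : ℂ) * ((x : IrrCharacter G) : G → ℂ) g] at h
      have h0 : (δ₀ : ℂ) * (δ₀ : ℂ) = 1 := by rcases T.sign₀ with e' | e' <;> simp [e']
      push_cast
      linear_combination (δ₀ : ℂ) * h - ((φ : IrrCharacter G) : G → ℂ) g * h0
  · beta_reduce
    set a := (e.symm i).1
    set b := (e.symm j).1
    have ha : a ∈ X := (e.symm i).2
    have hb : b ∈ X := (e.symm j).2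
    have h := CycVals.decomp S V a b
    rw [sum_congr rfl fun u hu => show aval (mu a.1) u * conj (aval (mu b.1) u) =
      (δ a : ℂ) * (δ b : ℂ) by
        rw [T.val_X a ha u (mem_filter.1 hu).2, T.val_X b hb u (mem_filter.1 hu).2, map_neg,
          map_intCast, neg_mul_neg], sum_const, nsmul_eq_mul] at h
    have hab : (a = b) = (i = j) := by
      refine propext ⟨fun h' => e.symm.injective (Subtype.ext h'), fun h' => ?_⟩
      show (e.symm i).1 = (e.symm j).1
      rw [h']
    have hcard : ((univ.filter fun u : P => u ≠ 1).card : ℂ) = (n : ℂ) * (Xᶜ).card := by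
      rw [filter_ne' univ (1 : P), card_erase_of_mem (mem_univ _), card_univ,
        ← Nat.card_eq_fintype_card, ← Nat.cast_mul, ← T.card_Y, Nat.add_sub_cancel]
    rw [hcard] at h
    have hn0 : (n : ℂ) ≠ 0 := Nat.cast_ne_zero.2 S.n_pos.ne'
    have hsq : ∀ x ∈ X, (δ x : ℂ) * (δ x : ℂ) = 1 := fun x hx => by
      rcases T.sign x hx with e' | e' <;> simp [e']
    have h' : classInner (regPart p ((a : IrrCharacter G) : G → ℂ))
        (regPart p ((b : IrrCharacter G) : G → ℂ)) =
        (if i = j then 1 else 0) - (δ a : ℂ) * (δ b : ℂ) * ((Xᶜ).card * (Nat.card P : ℂ)⁻¹) := by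
      simp only [hab] at h
      rw [h]
      field_simp
      ring
    rw [h']
    clear_value a b
    by_cases hij : i = j
    · obtain rfl : a = b := hab.mpr hij
      rw [if_pos hij]
      linear_combination (1 - ((Xᶜ).card : ℂ) * (Nat.card P : ℂ)⁻¹ * ((δ a : ℂ) * δ a + 1)) * hsq a ha
    · rw [if_neg hij]
      linear_combination -((Xᶜ).card : ℂ) * (Nat.card P : ℂ)⁻¹ *
        ((δ b : ℂ) * δ b * hsq a ha + hsq b hb)

/-- **The bound for a cyclic quotient.** -/
theorem card_le_of_cyclic_quotient (hM : IsPModular p M) {B : Set (IrrCharacter G)} {u : G}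
    {H : Subgroup G} [Fintype H] (hH : H = Subgroup.centralizer ({u} : Set G))
    {b : Set (IrrCharacter H)} (hind : IsInducedBlock M H b B)
    (hbd : blockDefect p b = blockDefect p B) {k : ℕ} (hk : orderOf u = p ^ k)
    (hne : ∀ χ ∈ B, contrib p b u χ χ ≠ 0) {N : Subgroup H} [N.Normal] (hN : IsPGroup p N)
    (hZ : N ≤ Subgroup.center H) {D : Subgroup H} (hD : IsDefectGroup p M b D) (hND : N ≤ D)
    (hcyc : IsCyclic (D.map (QuotientGroup.mk' N))) :
    Nat.card B ≤ p ^ blockDefect p B := by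
  haveI := Fintype.ofFinite (H ⧸ N)
  letI := irrFintype (G := H ⧸ N)
  letI := irrFintype (G := G)
  letI := irrFintype (G := H)
  haveI : Fintype B := Fintype.ofFinite B
  haveI : Fintype b := Fintype.ofFinite b
  obtain ⟨bb, hbb, hsub, hdef⟩ := CfsgLib.Block.Quot.exists_block_map_defectGroup hM hN hind.1
  set Db := D.map (QuotientGroup.mk' N)
  have hDb : IsDefectGroup p M bb Db := (hdef Db).2 ⟨D, hD, rfl⟩
  haveI : Fintype bb := Fintype.ofFinite bb
  have hl := blockRank_le hM hN hZ hind.1 hbb hsub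
  by_cases hD1 : Db = ⊥
  · have hd0 : blockDefect p bb = 0 := by
      have h := card_defectGroup hM hbb hDb
      rw [hD1, Subgroup.card_bot] at h
      exact (Nat.pow_eq_one.1 h.symm).resolve_left hM.1.ne_one
    refine card_le_of_rank_le_two hM hH hk hind hbd ?_
    rw [(card_and_rank_of_defect_zero hM hbb hd0).2] at hl
    omega
  obtain ⟨c, t, n, S⟩ := exists_cycData' hM hbb hDb hcyc hD1
  obtain ⟨m, x, δ, w, hrank, hq, hm, hexp, hgram⟩ := exists_reg_basis S
  set d := blockDefect p B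
  have hp0 : (p : ℂ) ≠ 0 := Nat.cast_ne_zero.2 hM.1.ne_zero
  have hcard : Nat.card N * Nat.card Db = p ^ d := by
    rw [← hbd, ← card_defectGroup hM hind.1 hD]
    have h1 := Subgroup.relIndex_ker D (QuotientGroup.mk' N)
    rw [QuotientGroup.ker_mk'] at h1
    rw [show Nat.card Db = N.relIndex D from h1.symm, ← Subgroup.relIndex_bot_left N,
      Subgroup.relIndex_mul_relIndex _ _ _ bot_le hND, Subgroup.relIndex_bot_left]
  have hDb0 : (Nat.card Db : ℂ) ≠ 0 := Nat.cast_ne_zero.2 Nat.card_pos.ne'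
  have hN0 : (Nat.card N : ℂ) ≠ 0 := Nat.cast_ne_zero.2 Nat.card_pos.ne'
  set f : Fin n → H → ℂ := fun i =>
    (δ i : ℂ) • regPart p (inflIrr (x i : IrrCharacter (H ⧸ N)) : H → ℂ)
  have hinfl : ∀ φ : bb, regPart p (inflIrr (φ : IrrCharacter (H ⧸ N)) : H → ℂ) =
      ∑ i, (w φ i : ℂ) • f i := by
    intro φ
    funext g
    rw [Finset.sum_apply]
    by_cases hg : p ∣ orderOf g
    · rw [regPart_of_dvd hg]
      exact (sum_eq_zero fun i _ => by simp [f, regPart_of_dvd hg]).symm
    · have hg' : ¬ p ∣ orderOf (g : H ⧸ N) := fun h =>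
        hg (h.trans (orderOf_map_dvd (QuotientGroup.mk' N) g))
      rw [regPart_of_not_dvd hg]
      refine (hexp φ (g : H ⧸ N) hg').trans (sum_congr rfl fun i _ => ?_)
      simp only [f, Pi.smul_apply, smul_eq_mul, regPart_of_not_dvd hg]
      rfl
  choose a ha using fun ξ : b => exists_reg_comb hM hN hZ hind.1 hbb hsub ξ.2
  choose L Nc hL _ _ hLN using fun (χ : B) (ξ : b) => exists_section_coeff hM hH hk χ.1 ξ.1
  set z : B → Fin n → ℂ := fun χ i =>
    ∑ ξ : b, L χ ξ * (Nc χ ξ : ℂ) * ∑ φ : bb, (a ξ φ : ℂ) * (w φ i : ℂ)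
  have hpk : 0 < p ^ k := pow_pos hM.1.pos k
  have hzK : ∀ χ i, z χ i ∈ cycloField (p ^ k) := fun χ i => sum_mem fun ξ _ =>
    mul_mem (mul_mem (root_mem_cycloField (hL χ ξ)) (natCast_mem _ _))
      (sum_mem fun φ _ => mul_mem (intCast_mem _ _) (intCast_mem _ _))
  have hint : ∀ e : ℤ, IsIntegral ℤ (e : ℂ) := fun e => by
    simpa using isIntegral_algebraMap (R := ℤ) (A := ℂ) (x := e)
  have hzI : ∀ χ i, IsIntegral ℤ (z χ i) := fun χ i => IsIntegral.sum _ fun ξ _ =>
    ((CfsgLib.Char.isIntegral_of_pow_eq_one hpk (hL χ ξ)).mul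
      (isIntegral_natCast_complex _)).mul (IsIntegral.sum _ fun φ _ => (hint _).mul (hint _))
  have hsubP : ∀ χ : B, subPart p b u χ.1 = ∑ i, z χ i • f i := by
    intro χ
    have h1 : subPart p b u χ.1 = ∑ ξ : b,
        (L χ ξ * (Nc χ ξ : ℂ)) • regPart p ((ξ : IrrCharacter H) : H → ℂ) := by
      funext s
      rw [Finset.sum_apply, subPart_eq_regPart hM hind.1]
      by_cases hs : p ∣ orderOf s
      · simp [regPart_of_dvd hs]
      · simp only [Pi.smul_apply, smul_eq_mul, regPart_of_not_dvd hs]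
        rw [blockPart_eq_sum_inner,
          sum_subtype (univ.filter (· ∈ b)) (p := (· ∈ b)) (by simp)
            fun ξ : IrrCharacter H => classInner (secFun H u χ.1) (ξ : H → ℂ) * (ξ : H → ℂ) s]
        exact sum_congr rfl fun ξ _ => by rw [hLN]
    rw [h1]
    simp only [ha, hinfl, smul_sum, smul_smul, z, sum_smul, mul_sum]
    rw [sum_congr rfl fun ξ _ => sum_comm, sum_comm]

  have hform : ∀ χ : B, (p : ℂ) ^ d * contrib p b u χ.1 χ.1 =
      (1 + (n : ℂ) * m) * ∑ i, z χ i * conj (z χ i) -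
        (m : ℂ) * (∑ i, z χ i) * conj (∑ i, z χ i) := by
    intro χ
    have hG : ∀ i j, classInner (f i) (f j) =
        (Nat.card N : ℂ)⁻¹ * ((if i = j then 1 else 0) - (m : ℂ) * (Nat.card Db : ℂ)⁻¹) := by
      intro i j
      rw [← hgram i j]
      simp only [f, CfsgLib.Char.classInner_smul_left, CfsgLib.Char.classInner_smul_right,
        classInner_regPart_infl hN hZ, map_intCast]
      ring
    have hcl : contrib p b u χ.1 χ.1 = ∑ i, ∑ j, z χ i * conj (z χ j) * classInner (f i) (f j) := by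
      rw [contrib, hsubP, CfsgLib.Char.classInner_sum_left]
      refine sum_congr rfl fun i _ => ?_
      rw [CfsgLib.Char.classInner_sum_right]
      exact sum_congr rfl fun j _ => by
        rw [CfsgLib.Char.classInner_smul_left, CfsgLib.Char.classInner_smul_right, mul_assoc]
    have h1 : ∀ i, ∑ j, z χ i * conj (z χ j) *
        ((Nat.card N : ℂ)⁻¹ * ((if i = j then 1 else 0) - (m : ℂ) * (Nat.card Db : ℂ)⁻¹)) =
        (Nat.card N : ℂ)⁻¹ * (z χ i * conj (z χ i) -
          (m : ℂ) * (Nat.card Db : ℂ)⁻¹ * (z χ i * conj (∑ j, z χ j))) := by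
      generalize z χ = Z
      intro i
      simp only [mul_sub, mul_ite, mul_one, mul_zero, sum_sub_distrib, sum_ite_eq, mem_univ,
        if_true, map_sum, mul_sum]
      congr 1
      · ring
      · exact sum_congr rfl fun j _ => by ring
    rw [hcl]
    simp only [hG, h1, ← mul_sum, sum_sub_distrib, ← sum_mul]
    rw [show (1 + (n : ℂ) * m) = (Nat.card Db : ℂ) by rw [← hq]; push_cast; ring,
      show (p : ℂ) ^ d = (Nat.card N : ℂ) * Nat.card Db by rw [← Nat.cast_mul, hcard, Nat.cast_pow]]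
    field_simp
  set I := (univ : Finset B).sigma fun χ => items (z χ)
  have hI : (Nat.card B * n : ℕ) ≤ I.card := by
    rw [Finset.card_sigma, Nat.card_eq_fintype_card, ← card_univ, ← smul_eq_mul]
    refine card_nsmul_le_sum _ _ _ fun χ _ => card_items _ ?_
    by_contra h
    simp only [not_exists, not_not] at h
    have h1 := hform χ
    simp only [h, zero_mul, mul_zero, sum_const_zero, sub_zero, map_zero] at h1
    exact hne χ.1 χ.2 ((mul_eq_zero.1 h1).resolve_left (pow_ne_zero _ hp0))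
  have hbound := TNN.le_of_rat hpk I (fun t => z t.1 t.2.1 * conj (z t.1 t.2.1))
    ((p : ℚ) ^ d * blockRank p b)
    (fun t _ => (hzI _ _).mul ((hzI _ _).map (RingHom.toIntAlgHom (starRingEnd ℂ))))
    (fun t _ => tnn_normSq hpk (hzK _ _))
    (fun t ht => by
      have h := (mem_filter.1 (mem_sigma.1 ht).2).2.1
      exact mul_ne_zero h (by simpa using h))
    (by
      have hs := sum_contrib_diag hM hH hk hind
      rw [sum_subtype (univ.filter (· ∈ B)) (p := (· ∈ B)) (by simp)
        (fun χ : IrrCharacter G => contrib p b u χ χ)] at hs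
      push_cast
      rw [← hs, mul_sum, Finset.sum_sigma, ← sum_sub_distrib]
      exact TNN.sum _ fun χ _ => by rw [hform]; exact tnn_form_sub hpk hm (z χ) (hzK χ))
  have h2 : I.card ≤ p ^ d * blockRank p b := by exact_mod_cast hbound
  refine Nat.le_of_mul_le_mul_right (hI.trans (h2.trans ?_)) S.n_pos
  exact Nat.mul_le_mul_left _ (hrank ▸ hl)

end CfsgLib.RankBound
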