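import Cfsg.Agent.BlocksB.RankBound.CyclicQuot

/-!
# Character counts for abelian defect groups of rank two or three
-/

set_option autoImplicit false
set_option linter.style.haveILetI false
set_option linter.unusedSectionVars false

namespace CfsgLib.RankBound

open Cfsg Finset CfsgLib.Block CfsgLib.Block.Chr CfsgLib.BrauerPairs CfsgLib.BlockStar
  CfsgLib.BlockB CfsgLib.HeightBound
open scoped Classical

universe u

variable {M : Ideal AlgInt} [M.IsPrime] {p : ℕ} [Fact p.Prime] [CharP (Residue M) p]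
  {G : Type u} [Group G] [Fintype G]

local notation "Z[" x "]" => Subgroup.zpowers x
local notation "C[" Q "]" => Subgroup.centralizer (SetLike.coe Q)

theorem centralizer_zpowers_eq (u : G) : C[Z[u]] = Subgroup.centralizer ({u} : Set G) := by
  rw [Subgroup.zpowers_eq_closure, Subgroup.centralizer_closure]

/-- Abelian defect group generated by two elements: `k(B) ≤ p ^ d`. -/
theorem card_le_of_two (hM : IsPModular p M) {B : Set (IrrCharacter G)} (hB : IsPBlock M B)
    {D : Subgroup G} (hD : IsDefectGroup p M B D) (hab : ∀ x ∈ D, ∀ y ∈ D, x * y = y * x)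
    {u v : G} (hu : u ∈ D) (hv : v ∈ D) (h : D ≤ Z[u] ⊔ Z[v]) :
    Nat.card B ≤ p ^ blockDefect p B := by
  obtain ⟨b, hind, hbd, hDb, ⟨k, hk, -⟩, hne⟩ := exists_major hM hB hD hab hu
  have hmem : ∀ x ∈ D, x ∈ C[Z[u]] := fun x hx =>
    Subgroup.mem_centralizer_iff.2 fun y hy => hab y (Subgroup.zpowers_le.2 hu hy) x hx
  have huH : Z[u] ≤ C[Z[u]] := zpowers_le_centralizer_zpowers u
  have hZ : (Z[u]).subgroupOf C[Z[u]] ≤ Subgroup.center C[Z[u]] := fun z hz =>
    Subgroup.mem_center_iff.2 fun g =>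
      Subtype.ext (Subgroup.mem_centralizer_iff.1 g.2 _ hz).symm
  haveI : ((Z[u]).subgroupOf C[Z[u]]).Normal :=
    ⟨fun z hz g => by rwa [Subgroup.mem_center_iff.1 (hZ hz) g, mul_inv_cancel_right]⟩
  refine card_le_of_cyclic_quotient hM (centralizer_zpowers_eq u) hind hbd hk hne
    (N := (Z[u]).subgroupOf C[Z[u]]) ?_ hZ hDb
    (fun z hz => Subgroup.zpowers_le.2 hu hz) ?_
  · exact (IsPGroup.of_card (n := k) (by rw [Nat.card_zpowers, hk])).of_equiv
      (Subgroup.subgroupOfEquivOfLe huH).symm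
  · have hDle : D.subgroupOf C[Z[u]] ≤ (Z[u] ⊔ Z[v]).subgroupOf C[Z[u]] := fun x hx => h hx
    refine Subgroup.isCyclic_of_le (H' := Subgroup.zpowers
      (QuotientGroup.mk' ((Z[u]).subgroupOf C[Z[u]]) ⟨v, hmem v hv⟩)) ?_
    refine (Subgroup.map_mono hDle).trans ?_
    rw [Subgroup.subgroupOf_sup huH (Subgroup.zpowers_le.2 (hmem v hv)), Subgroup.map_sup]
    refine sup_le ((Subgroup.map_eq_bot_iff _).2 (QuotientGroup.ker_mk' _).ge |>.le.trans bot_le) ?_
    rintro _ ⟨x, hx, rfl⟩
    obtain ⟨i, hi⟩ := Subgroup.mem_zpowers_iff.1 hx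
    refine ⟨i, ?_⟩
    show (QuotientGroup.mk' ((Z[u]).subgroupOf C[Z[u]]) (⟨v, hmem v hv⟩ : C[Z[u]])) ^ i = _
    rw [← map_zpow, show (⟨v, hmem v hv⟩ : C[Z[u]]) ^ i = x from Subtype.ext hi]

/-- Abelian defect group generated by three elements: `k(B) * |u| ≤ p ^ (2 d)`. -/
theorem card_mul_orderOf_le (hM : IsPModular p M) {B : Set (IrrCharacter G)} (hB : IsPBlock M B)
    {D : Subgroup G} (hD : IsDefectGroup p M B D) (hab : ∀ x ∈ D, ∀ y ∈ D, x * y = y * x)
    {u v w : G} (hu : u ∈ D) (hv : v ∈ D) (hw : w ∈ D) (h : D ≤ Z[u] ⊔ Z[v] ⊔ Z[w]) :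
    Nat.card B * orderOf u ≤ p ^ (2 * blockDefect p B) := by
  obtain ⟨b, hind, hbd, hDb, ⟨k, hk, -⟩, hne⟩ := exists_major hM hB hD hab hu
  set H := C[Z[u]] with hH
  set N := (Z[u]).subgroupOf H
  have hmem : ∀ x ∈ D, x ∈ H := fun x hx =>
    Subgroup.mem_centralizer_iff.2 fun y hy => hab y (Subgroup.zpowers_le.2 hu hy) x hx
  have huH : Z[u] ≤ H := zpowers_le_centralizer_zpowers u
  have hZ : N ≤ Subgroup.center H := fun z hz =>
    Subgroup.mem_center_iff.2 fun g =>
      Subtype.ext (Subgroup.mem_centralizer_iff.1 g.2 _ hz).symm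
  haveI : N.Normal :=
    ⟨fun z hz g => by rwa [Subgroup.mem_center_iff.1 (hZ hz) g, mul_inv_cancel_right]⟩
  have hcardN : Nat.card N = orderOf u := by
    rw [Nat.card_congr (Subgroup.subgroupOfEquivOfLe huH).toEquiv, Nat.card_zpowers]
  have hN : IsPGroup p N := IsPGroup.of_card (n := k) (hcardN.trans hk)
  haveI := Fintype.ofFinite (H ⧸ N)
  letI := irrFintype (G := H ⧸ N)
  haveI : Fintype b := Fintype.ofFinite b
  obtain ⟨bb, hbb, hsub, hdef⟩ := CfsgLib.Block.Quot.exists_block_map_defectGroup hM hN hind.1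
  set π := QuotientGroup.mk' N
  set Db := (D.subgroupOf H).map π
  have hDbb : IsDefectGroup p M bb Db := (hdef Db).2 ⟨_, hDb, rfl⟩
  haveI : Fintype bb := Fintype.ofFinite bb
  have habb : ∀ x ∈ Db, ∀ y ∈ Db, x * y = y * x := by
    rintro _ ⟨x, hx, rfl⟩ _ ⟨y, hy, rfl⟩
    rw [← map_mul, ← map_mul, show x * y = y * x from Subtype.ext (hab _ hx _ hy)]
  have hDle : D.subgroupOf H ≤ (Z[u] ⊔ Z[v] ⊔ Z[w]).subgroupOf H := fun x hx => h hx
  have hkb := card_le_of_two hM hbb hDbb habb (u := π ⟨v, hmem v hv⟩) (v := π ⟨w, hmem w hw⟩)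
    ⟨_, hv, rfl⟩ ⟨_, hw, rfl⟩ (by
      refine (Subgroup.map_mono hDle).trans ?_
      rw [Subgroup.subgroupOf_sup (sup_le huH (Subgroup.zpowers_le.2 (hmem v hv)))
        (Subgroup.zpowers_le.2 (hmem w hw)),
        Subgroup.subgroupOf_sup huH (Subgroup.zpowers_le.2 (hmem v hv)), Subgroup.map_sup,
        Subgroup.map_sup]
      have hz : ∀ (t : G) (ht : t ∈ H), ((Z[t]).subgroupOf H).map π ≤ Z[π ⟨t, ht⟩] := by
        rintro t ht _ ⟨x, hx, rfl⟩
        obtain ⟨i, hi⟩ := Subgroup.mem_zpowers_iff.1 hx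
        refine ⟨i, ?_⟩
        show (π ⟨t, ht⟩) ^ i = _
        rw [← map_zpow, show (⟨t, ht⟩ : H) ^ i = x from Subtype.ext hi]
      refine sup_le (sup_le ?_ ((hz v _).trans le_sup_left)) ((hz w _).trans le_sup_right)
      exact ((Subgroup.map_eq_bot_iff _).2 (QuotientGroup.ker_mk' _).ge).le.trans bot_le)
  have hcard : orderOf u * p ^ blockDefect p bb = p ^ blockDefect p B := by
    rw [← hbd, ← card_defectGroup hM hind.1 hDb, ← card_defectGroup hM hbb hDbb, ← hcardN]
    have h1 := Subgroup.relIndex_ker (D.subgroupOf H) π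
    rw [QuotientGroup.ker_mk'] at h1
    rw [show Nat.card Db = N.relIndex (D.subgroupOf H) from h1.symm, ← Subgroup.relIndex_bot_left N,
      Subgroup.relIndex_mul_relIndex _ _ _ bot_le
        (show N ≤ D.subgroupOf H from fun z hz => Subgroup.zpowers_le.2 hu hz),
      Subgroup.relIndex_bot_left]
  have h1 := card_le_mul_rank hM (centralizer_zpowers_eq u) hind hbd hk hne
  have h2 := (blockRank_le hM hN hZ hind.1 hbb hsub).trans (blockRank_le_card hM hbb)
  calc Nat.card B * orderOf u ≤ p ^ blockDefect p B * p ^ blockDefect p bb * orderOf u :=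
        Nat.mul_le_mul_right _ (h1.trans (Nat.mul_le_mul_left _ (h2.trans hkb)))
    _ = p ^ (2 * blockDefect p B) := by
        rw [mul_assoc, mul_comm (p ^ blockDefect p bb), hcard, two_mul, pow_add]

omit [Fintype G] in
theorem card_sup_le {A : Type*} [CommGroup A] (P Q : Subgroup A) :
    Nat.card (P ⊔ Q : Subgroup A) ≤ Nat.card P * Nat.card Q := by
  rw [← SetLike.coe_sort_coe (P ⊔ Q), Subgroup.normal_mul]
  exact Set.natCard_mul_le

/-- **S4697.** -/
theorem rank_two_three [Finite G] (hM : IsPModular p M) {B : Set (IrrCharacter G)}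
    (hB : IsPBlock M B) {D : Subgroup G} (hD : IsDefectGroup p M B D) (hab : IsMulCommutative D)
    {d : ℕ} (hDd : Nat.card D = p ^ d) :
    (Group.rank D = 2 → Nat.card B ≤ p ^ d) ∧
      (Group.rank D = 3 → Nat.card B ^ 3 ≤ p ^ (5 * d)) := by
  have hd : blockDefect p B = d :=
    Nat.pow_right_injective (Fact.out : p.Prime).two_le
      ((card_defectGroup hM hB hD).symm.trans hDd)
  have hab' : ∀ x ∈ D, ∀ y ∈ D, x * y = y * x := fun x hx y hy =>
    congrArg Subtype.val (hab.is_comm.comm (⟨x, hx⟩ : D) ⟨y, hy⟩)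
  obtain ⟨S, hS, htop⟩ := Group.rank_spec D
  have hmap : Subgroup.closure (D.subtype '' (S : Set D)) = D := by
    rw [← MonoidHom.map_closure, htop, ← MonoidHom.range_eq_map, Subgroup.range_subtype]
  refine ⟨fun h2 => ?_, fun h3 => ?_⟩
  · obtain ⟨x, y, -, rfl⟩ := card_eq_two.1 (hS.trans h2)
    rw [← hd]
    refine card_le_of_two hM hB hD hab' x.2 y.2 ?_
    nth_rw 1 [← hmap]
    rw [Subgroup.closure_le]
    rintro _ ⟨z, hz, rfl⟩
    simp only [coe_insert, coe_singleton, Set.mem_insert_iff, Set.mem_singleton_iff] at hz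
    rcases hz with rfl | rfl
    · exact le_sup_left (α := Subgroup G) (Subgroup.mem_zpowers _)
    · exact le_sup_right (α := Subgroup G) (Subgroup.mem_zpowers _)
  · obtain ⟨a, ha, hmax⟩ := exists_max_image S (fun x : D => orderOf (x : G))
      (card_pos.1 (by omega))
    obtain ⟨x, y, -, hxy⟩ := card_eq_two.1 (show (S.erase a).card = 2 by
      rw [card_erase_of_mem ha]; omega)
    have hSe : S = {a, x, y} := by rw [← insert_erase ha, hxy]
    subst hSe
    have hsup : D ≤ Z[(a : G)] ⊔ Z[(x : G)] ⊔ Z[(y : G)] := by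
      nth_rw 1 [← hmap]
      rw [Subgroup.closure_le]
      rintro _ ⟨z, hz, rfl⟩
      simp only [coe_insert, coe_singleton, Set.mem_insert_iff, Set.mem_singleton_iff] at hz
      rcases hz with rfl | rfl | rfl
      · exact le_sup_left (α := Subgroup G) (le_sup_left (α := Subgroup G) (Subgroup.mem_zpowers _))
      · exact le_sup_left (α := Subgroup G) (le_sup_right (α := Subgroup G) (Subgroup.mem_zpowers _))
      · exact le_sup_right (α := Subgroup G) (Subgroup.mem_zpowers _)
    have hk := card_mul_orderOf_le hM hB hD hab' a.2 x.2 y.2 hsup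
    rw [hd] at hk
    have hpd : p ^ d ≤ orderOf (a : G) ^ 3 := by
      letI : CommGroup D := { mul_comm := fun u v => hab.is_comm.comm u v }
      have hle : (⊤ : Subgroup D) ≤ Z[a] ⊔ Z[x] ⊔ Z[y] := by
        rw [← htop, Subgroup.closure_le]
        intro z hz
        simp only [coe_insert, coe_singleton, Set.mem_insert_iff, Set.mem_singleton_iff] at hz
        rcases hz with rfl | rfl | rfl
        · exact le_sup_left (α := Subgroup D) (le_sup_left (α := Subgroup D) (Subgroup.mem_zpowers _))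
        · exact le_sup_left (α := Subgroup D) (le_sup_right (α := Subgroup D) (Subgroup.mem_zpowers _))
        · exact le_sup_right (α := Subgroup D) (Subgroup.mem_zpowers _)
      have h1 := hmax x (by simp)
      have h2 := hmax y (by simp)
      simp only [Subgroup.orderOf_coe] at h1 h2 ⊢
      calc p ^ d = Nat.card (⊤ : Subgroup D) := by rw [Subgroup.card_top, hDd]
        _ ≤ Nat.card (Z[a] ⊔ Z[x] ⊔ Z[y] : Subgroup D) := Subgroup.card_le_of_le hle
        _ ≤ Nat.card Z[a] * Nat.card Z[x] * Nat.card Z[y] :=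
          (card_sup_le _ _).trans (Nat.mul_le_mul_right _ (card_sup_le _ _))
        _ ≤ orderOf a * orderOf a * orderOf a := by
          simp only [Nat.card_zpowers]
          gcongr
        _ = orderOf a ^ 3 := by ring
    refine Nat.le_of_mul_le_mul_right ?_ (pow_pos (Fact.out : p.Prime).pos d)
    calc Nat.card B ^ 3 * p ^ d ≤ Nat.card B ^ 3 * orderOf (a : G) ^ 3 :=
          Nat.mul_le_mul_left _ hpd
      _ = (Nat.card B * orderOf (a : G)) ^ 3 := (mul_pow _ _ _).symm
      _ ≤ (p ^ (2 * d)) ^ 3 := Nat.pow_le_pow_left hk 3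
      _ = p ^ (5 * d) * p ^ d := by rw [← pow_mul, ← pow_add]; congr 1; ring

end CfsgLib.RankBound
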