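import Cfsg.Agent.BlocksB.HeightBound.Positive

/-!
# A quadratic form of average at least `e`
-/

set_option autoImplicit false
set_option linter.style.haveILetI false

namespace CfsgLib.RankBound

open Finset CfsgLib.BlockB CfsgLib.HeightBound
open scoped Classical ComplexConjugate

theorem tnn_normSq {N : ℕ} (hN : 0 < N) {z : ℂ} (hz : z ∈ cycloField N) :
    TNN N (z * conj z) := by
  refine ⟨mul_mem hz (conj_mem_and_comm hN (cycloField N).val hz).1, fun σ => ?_⟩
  obtain ⟨h, hc⟩ := conj_mem_and_comm hN σ hz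
  refine ⟨‖σ ⟨z, hz⟩‖ ^ 2, sq_nonneg _, ?_⟩
  rw [show σ ⟨z * conj z, _⟩ = σ (⟨z, hz⟩ * ⟨conj z, h⟩) from rfl, map_mul, hc, Complex.mul_conj',
    Complex.ofReal_pow]

/-- The items contributed by the coordinates. -/
noncomputable def items {e : ℕ} (z : Fin e → ℂ) : Finset (Fin e × Option (Fin e)) :=
  univ.filter fun t => z t.1 ≠ 0 ∧ ∀ j ∈ t.2, z j = 0

theorem card_items {e : ℕ} (z : Fin e → ℂ) (hz : ∃ i, z i ≠ 0) : e ≤ (items z).card := by
  obtain ⟨i₀, hi₀⟩ := hz
  calc e = (univ : Finset (Fin e)).card := by rw [card_univ, Fintype.card_fin]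
    _ ≤ (items z).card := card_le_card_of_injOn
        (fun i => if z i = 0 then (i₀, some i) else (i, none))
        (fun i _ => by
          by_cases h : z i = 0 <;> simp [items, h, hi₀])
        (fun i _ j _ h => by
          by_cases hi : z i = 0 <;> by_cases hj : z j = 0 <;> simp_all)

theorem sum_items {e : ℕ} (z : Fin e → ℂ) (f : Fin e → ℂ) :
    ∑ t ∈ items z, f t.1 = ∑ i ∈ univ.filter (fun i => z i ≠ 0),
      ((1 + ((univ.filter fun j => z j = 0).card : ℂ)) * f i) := by
  have : items z = (univ.filter fun i => z i ≠ 0) ×ˢ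
      (insert none ((univ.filter fun j => z j = 0).image some)) := by
    ext ⟨i, o⟩
    cases o <;> simp [items]
  rw [this, sum_product]
  refine sum_congr rfl fun i _ => ?_
  show ∑ _y ∈ _, f i = _
  rw [sum_const, card_insert_of_notMem (by simp), card_image_of_injective _ (Option.some_injective _),
    nsmul_eq_mul]
  push_cast
  ring

/-- What is left of the form after removing the items is totally nonnegative. -/
theorem tnn_form_sub {N : ℕ} (hN : 0 < N) {e m : ℕ} (hm : 0 < m) (z : Fin e → ℂ)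
    (hz : ∀ i, z i ∈ cycloField N) :
    TNN N ((1 + (e : ℂ) * m) * ∑ i, z i * conj (z i) - (m : ℂ) * (∑ i, z i) * conj (∑ i, z i) -
      ∑ t ∈ items z, z t.1 * conj (z t.1)) := by
  set S := univ.filter (fun i => z i ≠ 0)
  set S' := univ.filter (fun j => z j = 0)
  have hsum : ∑ i, z i = ∑ i ∈ S, z i := (sum_filter_ne_zero univ).symm
  have hsq : ∑ i, z i * conj (z i) = ∑ i ∈ S, z i * conj (z i) :=
    (sum_filter_of_ne (p := fun i => z i ≠ 0) fun i _ h h0 => h (by rw [h0, zero_mul])).symm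
  have hcard : (e : ℂ) = S'.card + S.card := by
    have h := card_filter_add_card_filter_not (s := (univ : Finset (Fin e))) (p := fun i => z i = 0)
    rw [card_univ, Fintype.card_fin] at h
    rw [← Nat.cast_add, Nat.cast_inj]
    exact h.symm
  have hpairs : ((1 / 2 : ℚ) : ℂ) * ∑ i ∈ S, ∑ j ∈ S, (z i - z j) * conj (z i - z j) =
      (S.card : ℂ) * ∑ i ∈ S, z i * conj (z i) - (∑ i ∈ S, z i) * conj (∑ i ∈ S, z i) := by
    simp only [map_sub, sub_mul, mul_sub, sum_sub_distrib, sum_const, nsmul_eq_mul, ← mul_sum,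
      ← sum_mul, map_sum]
    push_cast
    ring
  have hrw : (1 + (e : ℂ) * m) * ∑ i, z i * conj (z i) - (m : ℂ) * (∑ i, z i) * conj (∑ i, z i) -
      ∑ t ∈ items z, z t.1 * conj (z t.1) =
      (((m - 1) * S'.card : ℕ) : ℂ) * ∑ i ∈ S, z i * conj (z i) +
        (m : ℂ) * (((1 / 2 : ℚ) : ℂ) * ∑ i ∈ S, ∑ j ∈ S, (z i - z j) * conj (z i - z j)) := by
    rw [hpairs, sum_items z fun i => z i * conj (z i), hsum, hsq, hcard, ← mul_sum,
      Nat.cast_mul, Nat.cast_sub hm, Nat.cast_one]
    ring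
  rw [hrw]
  exact ((TNN.sum _ fun i _ => tnn_normSq hN (hz i)).natMul _).add
    (((TNN.sum _ fun i _ => TNN.sum _ fun j _ =>
      tnn_normSq hN (sub_mem (hz i) (hz j))).ratMul (by norm_num)).natMul _)

end CfsgLib.RankBound
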